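import Mathlib

set_option autoImplicit false

namespace Groth.Agent.H5.SymLoc

open TensorProduct

section Units

lemma isUnit_algebraMap_end {A : Type*} [CommRing A] (A' : Type*) [CommRing A'] [Algebra A A']
    {N : Type*} [AddCommGroup N] [Module A N] [Module A' N] [IsScalarTower A A' N]
    (s : A) (hs : IsUnit (algebraMap A A' s)) : IsUnit (algebraMap A (Module.End A N) s) := by
  rw [Module.End.isUnit_iff]
  constructor
  · intro n1 n2 h
    simp only [Module.algebraMap_end_apply] at h
    rw [← algebraMap_smul A' s n1, ← algebraMap_smul A' s n2] at h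
    exact hs.smul_left_cancel.mp h
  · intro n
    obtain ⟨u, hu⟩ := hs
    refine ⟨(↑u⁻¹ : A') • n, ?_⟩
    simp only [Module.algebraMap_end_apply]
    rw [← algebraMap_smul A' s, ← hu, smul_smul]
    simp

end Units

section Main

variable {A : Type*} [CommRing A] (a : A)
  {A' : Type*} [CommRing A'] [Algebra A A'] [IsLocalization.Away a A']
  {K : Type*} [AddCommGroup K] [Module A K]
  {K' : Type*} [AddCommGroup K'] [Module A K'] [Module A' K'] [IsScalarTower A A' K']
  (φ : K →ₗ[A] K') [IsLocalizedModule (Submonoid.powers a) φ]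
  {C : Type*} [CommRing C] [Algebra A C] (ι : K →ₗ[A] C)
  (C' : Type*) [CommRing C'] [Algebra C C'] [Algebra A C'] [IsScalarTower A C C']
  [Algebra A' C'] [IsScalarTower A A' C']

/-- The induced map `K_a → C_a`, as an `A`-linear map. -/
noncomputable def iotaLoc0 : K' →ₗ[A] C' :=
  IsLocalizedModule.lift (Submonoid.powers a) φ
    ((IsScalarTower.toAlgHom A C C').toLinearMap ∘ₗ ι)
    (fun s => isUnit_algebraMap_end A' s.1 (IsLocalization.map_units A' s))

/-- The induced map `K_a → C_a`. -/
noncomputable def iotaLoc : K' →ₗ[A'] C' :=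
  LinearMap.extendScalarsOfIsLocalization (Submonoid.powers a) A' (iotaLoc0 (A' := A') a φ ι C')

lemma iotaLoc_apply (k : K) :
    iotaLoc (A' := A') a φ ι C' (φ k) = algebraMap C C' (ι k) := by
  simp [iotaLoc, iotaLoc0, IsLocalizedModule.lift_apply]

variable {ι} (h : IsSymmetricAlgebra ι) [IsLocalization.Away (algebraMap A C a) C']

/-- The comparison map `C → Sym_{A'} K'`. -/
noncomputable def toSym : C →ₐ[A] SymmetricAlgebra A' K' :=
  h.lift (((SymmetricAlgebra.ι A' K').restrictScalars A) ∘ₗ φ)

lemma toSym_ι (k : K) : toSym φ h (ι k) = SymmetricAlgebra.ι A' K' (φ k) := by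
  simp [toSym, h.lift_eq]

include h in
theorem isSymmetricAlgebra_iotaLoc : IsSymmetricAlgebra (iotaLoc (A' := A') a φ ι C') := by
  have hunit : IsUnit ((toSym (A' := A') φ h : C →+* SymmetricAlgebra A' K') (algebraMap A C a)) := by
    have : (toSym (A' := A') φ h : C →+* SymmetricAlgebra A' K') (algebraMap A C a) =
        algebraMap A' (SymmetricAlgebra A' K') (algebraMap A A' a) := by
      change toSym (A' := A') φ h (algebraMap A C a) = _
      rw [AlgHom.commutes, IsScalarTower.algebraMap_apply A A' (SymmetricAlgebra A' K')]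
    rw [this]
    exact (IsLocalization.Away.algebraMap_isUnit (S := A') a).map _
  let G : C' →+* SymmetricAlgebra A' K' :=
    IsLocalization.Away.lift (algebraMap A C a) hunit
  have hG : ∀ c : C, G (algebraMap C C' c) = toSym (A' := A') φ h c := fun c =>
    IsLocalization.Away.lift_eq _ hunit c
  let F : SymmetricAlgebra A' K' →ₐ[A'] C' := SymmetricAlgebra.lift (iotaLoc a φ ι C')
  have hGA' : ∀ r : A', G (algebraMap A' C' r) = algebraMap A' (SymmetricAlgebra A' K') r := by
    have : (G.comp (algebraMap A' C')) = algebraMap A' (SymmetricAlgebra A' K') := by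
      apply IsLocalization.ringHom_ext (Submonoid.powers a)
      ext r
      simp only [RingHom.comp_apply]
      rw [← IsScalarTower.algebraMap_apply A A' C', IsScalarTower.algebraMap_apply A C C', hG,
        AlgHom.commutes, ← IsScalarTower.algebraMap_apply A A' (SymmetricAlgebra A' K')]
    exact fun r => RingHom.congr_fun this r
  let G' : C' →ₐ[A'] SymmetricAlgebra A' K' := { G with commutes' := hGA' }
  have hG' : ∀ c, G' c = G c := fun _ => rfl
  have hGF : G'.comp F = AlgHom.id A' _ := by
    apply SymmetricAlgebra.algHom_ext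
    apply LinearMap.restrictScalars_injective A
    apply IsLocalizedModule.ext (Submonoid.powers a) φ
      (fun s => isUnit_algebraMap_end A' s.1 (IsLocalization.map_units A' s))
    ext k
    simp only [LinearMap.comp_apply, LinearMap.restrictScalars_apply, AlgHom.toLinearMap_apply,
      AlgHom.comp_apply, AlgHom.id_apply]
    change G' (F (SymmetricAlgebra.ι A' K' (φ k))) = _
    rw [SymmetricAlgebra.lift_ι_apply, iotaLoc_apply, hG', hG, toSym_ι]
    rfl
  have hFG : ∀ c', F (G c') = c' := by
    have : (F : SymmetricAlgebra A' K' →+* C').comp G = RingHom.id C' := by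
      apply IsLocalization.ringHom_ext (Submonoid.powers (algebraMap A C a))
      have h2 : ((F.restrictScalars A).comp (toSym (A' := A') φ h)) =
          IsScalarTower.toAlgHom A C C' := by
        apply h.algHom_ext
        ext k
        change F (toSym (A' := A') φ h (ι k)) = algebraMap C C' (ι k)
        rw [toSym_ι, SymmetricAlgebra.lift_ι_apply, iotaLoc_apply]
      ext c
      simp only [RingHom.comp_apply, RingHom.id_apply]
      rw [hG]
      exact AlgHom.congr_fun h2 c
    exact fun c' => RingHom.congr_fun this c'
  rw [IsSymmetricAlgebra, Function.bijective_iff_has_inverse]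
  refine ⟨G, fun y => ?_, hFG⟩
  exact AlgHom.congr_fun hGF y

end Main

end Groth.Agent.H5.SymLoc
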