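import Mathlib
import Groth.Agent.Lib.Helper5.SymSmooth.G
import Groth.Agent.Lib.Helper5.SymLoc.A

set_option autoImplicit false

namespace Groth.Agent.H5.SymLoc

open TensorProduct KaehlerDifferential Groth.Agent.H5.SymSmooth

section Ker

variable {R : Type*} [CommRing R] {A : Type*} [CommRing A] [Algebra R A] (a : A)
  (A' : Type*) [CommRing A'] [Algebra A A'] [IsLocalization.Away a A'] [Algebra R A']
  [IsScalarTower R A A']
  {ι' : Type*} [Fintype ι'] [DecidableEq ι'] (x : ι' → A)

/-- The image family in the localization. -/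
def xLoc : ι' → A' := fun i => algebraMap A A' (x i)

/-- The localization map on `A^n`. -/
noncomputable def piLoc : (ι' → A) →ₗ[A] (ι' → A') :=
  LinearMap.pi fun i => Algebra.linearMap A A' ∘ₗ LinearMap.proj i

omit [DecidableEq ι'] in
lemma piLoc_apply (c : ι' → A) (i : ι') : piLoc A' c i = algebraMap A A' (c i) := rfl

include a in
omit [DecidableEq ι'] in
lemma isLocalizedModule_piLoc : IsLocalizedModule (Submonoid.powers a) (piLoc A' (ι' := ι')) :=
  IsLocalizedModule.pi (S := Submonoid.powers a) (fun _ : ι' => Algebra.linearMap A A')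

lemma piMap_piLoc (c : ι' → A) :
    piMap (R := R) (xLoc A' x) (piLoc A' c) = KaehlerDifferential.map R R A A' (piMap (R := R) x c) := by
  rw [piMap_apply, piMap_apply, map_sum]
  refine Finset.sum_congr rfl fun i _ => ?_
  rw [piLoc_apply, LinearMap.map_smul, map_D, algebraMap_smul A' (c i)]
  rfl

/-- The map on kernels. -/
noncomputable def kerMap : LinearMap.ker (piMap (R := R) x) →ₗ[A]
    LinearMap.ker (piMap (R := R) (xLoc A' x)) where
  toFun k := ⟨piLoc A' k.1, by
    have : piMap (R := R) x k.1 = 0 := k.2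
    rw [LinearMap.mem_ker, piMap_piLoc, this, map_zero]⟩
  map_add' k1 k2 := by
    apply Subtype.ext
    simp
  map_smul' r k := by
    apply Subtype.ext
    simp

lemma kerMap_coe (k : LinearMap.ker (piMap (R := R) x)) : (kerMap A' x k).1 = piLoc A' k.1 := rfl

include a in
lemma isLocalizedModule_kerMap :
    IsLocalizedModule (Submonoid.powers a) (kerMap (R := R) A' x) := by
  haveI := isLocalizedModule_piLoc a A' (ι' := ι')
  refine ⟨fun s => isUnit_algebraMap_end A' s.1 (IsLocalization.map_units A' s), ?_, ?_⟩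
  · intro y
    obtain ⟨⟨c, s⟩, hcs⟩ := IsLocalizedModule.surj (Submonoid.powers a) (piLoc A' (ι' := ι')) y.1
    have hy : piMap (R := R) (xLoc A' x) y.1 = 0 := y.2
    have h0 : KaehlerDifferential.map R R A A' (piMap (R := R) x c) =
        KaehlerDifferential.map R R A A' 0 := by
      rw [← piMap_piLoc, ← hcs, map_zero, Submonoid.smul_def, ← algebraMap_smul A' (s : A) y.1,
        LinearMap.map_smul, hy, smul_zero]
    obtain ⟨t, ht⟩ := IsLocalizedModule.exists_of_eq (S := Submonoid.powers a) h0
    rw [smul_zero, Submonoid.smul_def, ← LinearMap.map_smul] at ht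
    refine ⟨⟨⟨(t : A) • c, ht⟩, t * s⟩, ?_⟩
    apply Subtype.ext
    change ((t * s) • y).1 = piLoc A' ((t : A) • c)
    rw [LinearMap.map_smul, ← hcs, Submonoid.smul_def, Submonoid.smul_def, Submonoid.coe_mul,
      mul_smul]
    rfl
  · intro k1 k2 h12
    have : piLoc A' k1.1 = piLoc A' k2.1 := congrArg Subtype.val h12
    obtain ⟨c, hc⟩ := IsLocalizedModule.exists_of_eq (S := Submonoid.powers a) this
    exact ⟨c, Subtype.ext hc⟩

end Ker

section Main

universe u v w

variable {R : Type w} [CommRing R] {A : Type u} [CommRing A] [Algebra R A] (a : A)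
  (A' : Type u) [CommRing A'] [Algebra A A'] [IsLocalization.Away a A'] [Algebra R A']
  [IsScalarTower R A A']
  {ι' : Type*} [Fintype ι'] [DecidableEq ι'] (x : ι' → A)
  {C : Type*} [CommRing C] [Algebra A C]
  {ι : LinearMap.ker (piMap (R := R) x) →ₗ[A] C}
  (C' : Type v) [CommRing C'] [Algebra C C'] [Algebra A C'] [IsScalarTower A C C']
  [Algebra A' C'] [IsScalarTower A A' C'] [Algebra R C'] [IsScalarTower R A' C']
  [IsLocalization.Away (algebraMap A C a) C']

include a in
theorem free_kaehler_of_away (hx : Submodule.span A (Set.range fun i => D R A (x i)) = ⊤)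
    (h : IsSymmetricAlgebra ι) [Algebra.Smooth R A'] : Module.Free C' Ω[C'⁄R] := by
  -- the differentials of the images span
  have hx' : Submodule.span A' (Set.range fun i => D R A' (xLoc A' x i)) = ⊤ := by
    have := span_eq_top_of_isLocalizedModule A' (Submonoid.powers a)
      (KaehlerDifferential.map R R A A') hx
    rw [← this, ← Set.range_comp]
    congr 2
    funext i
    simp [xLoc]
  obtain ⟨σ, hσ'⟩ := Module.projective_lifting_property (piMap (R := R) (xLoc A' x)) LinearMap.id
    (piMap_surjective _ hx')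
  have hσ : ∀ ω, piMap (R := R) (xLoc A' x) (σ ω) = ω := fun ω => LinearMap.congr_fun hσ' ω
  haveI : Module.Projective A' (LinearMap.ker (piMap (R := R) (xLoc A' x))) :=
    projective_ker σ hσ
  haveI := isLocalizedModule_kerMap (R := R) a A' x
  have hsym := isSymmetricAlgebra_iotaLoc (A' := A') a (kerMap (R := R) A' x) C' h
  obtain ⟨e⟩ := nonempty_kaehler_equiv_pi (R := R) hsym (splitEquiv σ hσ)
  exact Module.Free.of_equiv e.symm

end Main

end Groth.Agent.H5.SymLoc
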