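import Mathlib
import Groth.Agent.Lib.Helper5.SymLoc.B

set_option autoImplicit false

namespace Groth.Agent.H5.SymLoc

open TensorProduct KaehlerDifferential Groth.Agent.H5.SymSmooth MvPolynomial

universe u

section FT

variable {A : Type*} [CommRing A] {K : Type*} [AddCommGroup K] [Module A K]
  {S : Type*} [CommRing S] [Algebra A S] {ι : K →ₗ[A] S}

/-- The symmetric algebra of a finite module is of finite type. -/
theorem finiteType_of_isSymmetricAlgebra (h : IsSymmetricAlgebra ι) [Module.Finite A K] :
    Algebra.FiniteType A S := by
  classical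
  obtain ⟨n, p, hp⟩ := Module.Finite.exists_fin' A K
  let q : MvPolynomial (Fin n) A →ₐ[A] S :=
    aeval (fun m => ι (p (Pi.single m 1)))
  have hsurj : Function.Surjective q := by
    intro s
    induction s using h.induction with
    | algebraMap r => exact ⟨C r, by simp [q]⟩
    | ι k =>
      obtain ⟨c, rfl⟩ := hp k
      refine ⟨∑ i, C (c i) * X i, ?_⟩
      rw [linearMap_eq_sum_single p c]
      simp only [map_sum, map_mul, map_smul, q, aeval_X, aeval_C, Algebra.smul_def]
    | mul s t hs ht =>
      obtain ⟨s', rfl⟩ := hs
      obtain ⟨t', rfl⟩ := ht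
      exact ⟨s' * t', map_mul _ _ _⟩
    | add s t hs ht =>
      obtain ⟨s', rfl⟩ := hs
      obtain ⟨t', rfl⟩ := ht
      exact ⟨s' + t', map_add _ _ _⟩
  exact Algebra.FiniteType.of_surjective q hsurj

end FT

section Family

/-- A finite family whose differentials span. -/
theorem exists_family_span (R A : Type u) [CommRing R] [CommRing A] [Algebra R A]
    [Module.Finite A Ω[A⁄R]] :
    ∃ (ι' : Type u) (_ : Fintype ι') (x : ι' → A),
      Submodule.span A (Set.range fun i => D R A (x i)) = ⊤ := by
  classical
  have hfg : (⊤ : Submodule A Ω[A⁄R]).FG := Module.Finite.fg_top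
  rw [← KaehlerDifferential.span_range_derivation R A] at hfg
  obtain ⟨s', hs'sub, hs'span⟩ := (Submodule.fg_span_iff_fg_span_finset_subset _).mp hfg
  have hch : ∀ i : s', ∃ a : A, D R A a = i.1 := fun i => hs'sub i.2
  choose x hx using hch
  refine ⟨s', inferInstance, x, ?_⟩
  have : (Set.range fun i : s' => D R A (x i)) = (s' : Set Ω[A⁄R]) := by
    ext y
    constructor
    · rintro ⟨i, rfl⟩
      change D R A (x i) ∈ _
      rw [hx]
      exact i.2
    · intro hy
      exact ⟨⟨y, hy⟩, hx _⟩
  rw [this, ← hs'span, KaehlerDifferential.span_range_derivation]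

end Family

section Final

theorem final_step {R A : Type u} [CommRing R] [CommRing A] [Algebra R A]
    {ι' : Type u} [Fintype ι'] [DecidableEq ι'] (x : ι' → A)
    (hx : Submodule.span A (Set.range fun i => D R A (x i)) = ⊤) (a : A)
    [Algebra.Smooth R (Localization.Away a)] :
    Module.Free
      (Localization.Away (algebraMap A (SymmetricAlgebra A (LinearMap.ker (piMap (R := R) x))) a))
      Ω[Localization.Away
        (algebraMap A (SymmetricAlgebra A (LinearMap.ker (piMap (R := R) x))) a)⁄R] := by
  set C := SymmetricAlgebra A (LinearMap.ker (piMap (R := R) x)) with hC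
  letI alg : Algebra (Localization.Away a) (Localization.Away (algebraMap A C a)) :=
    (Localization.awayMap (algebraMap A C) a).toAlgebra
  have hmap : ∀ r : A, algebraMap (Localization.Away a) (Localization.Away (algebraMap A C a))
      (algebraMap A (Localization.Away a) r) =
      algebraMap C (Localization.Away (algebraMap A C a)) (algebraMap A C r) := by
    intro r
    change Localization.awayMap (algebraMap A C) a (algebraMap A (Localization.Away a) r) = _
    simp [Localization.awayMap, IsLocalization.Away.map, IsLocalization.map_eq]
  haveI t1 : IsScalarTower A (Localization.Away a) (Localization.Away (algebraMap A C a)) :=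
    IsScalarTower.of_algebraMap_eq fun r => by
      rw [hmap, ← IsScalarTower.algebraMap_apply A C]
  haveI t2 : IsScalarTower R (Localization.Away a) (Localization.Away (algebraMap A C a)) :=
    IsScalarTower.of_algebraMap_eq fun r => by
      rw [IsScalarTower.algebraMap_apply R A (Localization.Away a), hmap,
        ← IsScalarTower.algebraMap_apply R A C, ← IsScalarTower.algebraMap_apply R C]
  exact free_kaehler_of_away (R := R) a (Localization.Away a) x
    (Localization.Away (algebraMap A C a)) hx
    (ι := SymmetricAlgebra.ι A _) SymmetricAlgebra.isSymmetricAlgebra_ι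

theorem main {R A : Type u} [CommRing R] [CommRing A] [Algebra R A]
    [Algebra.FinitePresentation R A] :
    ∃ (C : Type u) (_ : CommRing C) (_ : Algebra A C) (_ : Algebra R C) (_ : IsScalarTower R A C),
      Algebra.FiniteType A C ∧ Nonempty (C →ₐ[A] A) ∧
      ∀ a : A, Algebra.Smooth R (Localization.Away a) →
        Module.Free (Localization.Away (algebraMap A C a)) Ω[Localization.Away (algebraMap A C a)⁄R] := by
  classical
  obtain ⟨ι', _, x, hx⟩ := exists_family_span R A
  haveI : Module.Finite A (LinearMap.ker (piMap (R := R) x)) :=
    ⟨(Submodule.fg_top _).mpr (Module.FinitePresentation.fg_ker (piMap (R := R) x)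
      (piMap_surjective x hx))⟩
  refine ⟨SymmetricAlgebra A (LinearMap.ker (piMap (R := R) x)), inferInstance, inferInstance,
    inferInstance, inferInstance,
    finiteType_of_isSymmetricAlgebra SymmetricAlgebra.isSymmetricAlgebra_ι,
    ⟨SymmetricAlgebra.algebraMapInv⟩, ?_⟩
  intro a hsm
  exact final_step x hx a

end Final

end Groth.Agent.H5.SymLoc
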